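import Cfsg.Agent.Lib.Helper27.Zass.T1Defs

/-!
# ZASS (S0690), sub-package [T1-R]: the ring part of [T1].

`s := -(2W+1)`, `s_a := -(2A+1)`, `u₁ := 3 s_a ± s`, `u₂ := 3 s_b ± s`:
`s² = -3`, `uᵢ² = -24`, `s uᵢ = - uᵢ s`, `c := u₁ u₂ + u₂ u₁` central, and
`1, s, u₁, u₂, s u₁, s u₂, u₁ u₂, s u₁ u₂` span over `adjoin {c}`.
-/

set_option autoImplicit false

namespace Cfsg.Agent.Lib.Helper94.Zass

open Cfsg.Agent.Lib.Helper27.Zass

universe u v

section span

variable {K : Type v} [Field K] {R : Type u} [Ring R] [Algebra K R]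

/-- membership in the `Z`-span of the family `r`. -/
def InSpan8 (Z : Subalgebra K R) (r : Fin 8 → R) (x : R) : Prop :=
  ∃ c : Fin 8 → R, (∀ i, c i ∈ Z) ∧ x = ∑ i, c i * r i

theorem inSpan8_basis (Z : Subalgebra K R) (r : Fin 8 → R) (i : Fin 8) : InSpan8 Z r (r i) := by
  refine ⟨fun j => if j = i then 1 else 0, ?_, ?_⟩
  · intro j
    by_cases h : j = i
    · simp only [h, if_true]
      exact one_mem Z
    · simp only [h, if_false]
      exact zero_mem Z
  · simp [Finset.sum_ite_eq']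

theorem inSpan8_add {Z : Subalgebra K R} {r : Fin 8 → R} {x y : R} (hx : InSpan8 Z r x)
    (hy : InSpan8 Z r y) : InSpan8 Z r (x + y) := by
  obtain ⟨c, hc, rfl⟩ := hx
  obtain ⟨c', hc', rfl⟩ := hy
  refine ⟨fun i => c i + c' i, fun i => add_mem (hc i) (hc' i), ?_⟩
  rw [← Finset.sum_add_distrib]
  exact Finset.sum_congr rfl fun i _ => (add_mul _ _ _).symm

theorem inSpan8_zmul {Z : Subalgebra K R} {r : Fin 8 → R} {z x : R} (hz : z ∈ Z)
    (hx : InSpan8 Z r x) : InSpan8 Z r (z * x) := by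
  obtain ⟨c, hc, rfl⟩ := hx
  refine ⟨fun i => z * c i, fun i => mul_mem hz (hc i), ?_⟩
  rw [Finset.mul_sum]
  exact Finset.sum_congr rfl fun i _ => (mul_assoc _ _ _).symm

theorem inSpan8_neg {Z : Subalgebra K R} {r : Fin 8 → R} {x : R} (hx : InSpan8 Z r x) :
    InSpan8 Z r (-x) := by
  have h := inSpan8_zmul (neg_mem (one_mem Z)) hx
  rwa [neg_one_mul] at h

theorem inSpan8_sub {Z : Subalgebra K R} {r : Fin 8 → R} {x y : R} (hx : InSpan8 Z r x)
    (hy : InSpan8 Z r y) : InSpan8 Z r (x - y) := by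
  rw [sub_eq_add_neg]
  exact inSpan8_add hx (inSpan8_neg hy)

theorem inSpan8_zsmul {Z : Subalgebra K R} {r : Fin 8 → R} {x : R} (n : ℤ)
    (hx : InSpan8 Z r x) : InSpan8 Z r (n • x) := by
  have h := inSpan8_zmul (zsmul_mem (one_mem Z) n) hx
  rwa [smul_mul_assoc, one_mul] at h

theorem inSpan8_smul {Z : Subalgebra K R} {r : Fin 8 → R} {x : R} (k : K)
    (hx : InSpan8 Z r x) : InSpan8 Z r (k • x) := by
  have h := inSpan8_zmul (Z.smul_mem (one_mem Z) k) hx
  rwa [smul_mul_assoc, one_mul] at h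

/-- The core: three elements with `s² = -3`, `uᵢ² = -24`, `s` anticommuting with `uᵢ`. -/
theorem t1r_core (s u₁ u₂ : R) (hs : s * s = (-3 : ℤ) • (1 : R))
    (h1 : u₁ * u₁ = (-24 : ℤ) • (1 : R)) (h2 : u₂ * u₂ = (-24 : ℤ) • (1 : R))
    (a1 : u₁ * s = -(s * u₁)) (a2 : u₂ * s = -(s * u₂)) :
    ∃ (Z : Subalgebra K R) (r : Fin 8 → R),
      (∀ z ∈ Z, ∀ z' ∈ Z, z * z' = z' * z) ∧
      (∀ z ∈ Z, Commute z s ∧ Commute z u₁ ∧ Commute z u₂) ∧
      (∀ i, r i ∈ Algebra.adjoin K ({s, u₁, u₂} : Set R)) ∧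
      r 0 = 1 ∧
      (∀ j, InSpan8 Z r (s * r j) ∧ InSpan8 Z r (u₁ * r j) ∧ InSpan8 Z r (u₂ * r j)) := by
  obtain ⟨c, hcdef⟩ : ∃ c : R, c = u₁ * u₂ + u₂ * u₁ := ⟨_, rfl⟩
  have hsx : ∀ x, s * (s * x) = (-3 : ℤ) • x := by
    intro x
    rw [← mul_assoc, hs, smul_mul_assoc, one_mul]
  have h1x : ∀ x, u₁ * (u₁ * x) = (-24 : ℤ) • x := by
    intro x
    rw [← mul_assoc, h1, smul_mul_assoc, one_mul]
  have h2x : ∀ x, u₂ * (u₂ * x) = (-24 : ℤ) • x := by
    intro x
    rw [← mul_assoc, h2, smul_mul_assoc, one_mul]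
  have a1x : ∀ x, u₁ * (s * x) = -(s * (u₁ * x)) := by
    intro x
    rw [← mul_assoc, a1, neg_mul, mul_assoc]
  have a2x : ∀ x, u₂ * (s * x) = -(s * (u₂ * x)) := by
    intro x
    rw [← mul_assoc, a2, neg_mul, mul_assoc]
  have hc : u₂ * u₁ = c - u₁ * u₂ := by
    rw [hcdef]
    abel
  have hcx : ∀ x, u₂ * (u₁ * x) = c * x - u₁ * (u₂ * x) := by
    intro x
    rw [← mul_assoc, hc, sub_mul, mul_assoc]
  have hcs : Commute s c := by
    show s * c = c * s
    rw [hcdef, mul_add, add_mul, mul_assoc, mul_assoc, a2, a1, mul_neg, mul_neg,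
      ← mul_assoc u₁ s u₂, a1, neg_mul, neg_neg, ← mul_assoc u₂ s u₁, a2, neg_mul, neg_neg,
      mul_assoc, mul_assoc]
  have hc1 : Commute u₁ c := by
    show u₁ * c = c * u₁
    rw [hcdef, mul_add, add_mul, h1x, mul_assoc, mul_assoc, h1, mul_smul_comm, mul_one]
    abel
  have hc2 : Commute u₂ c := by
    show u₂ * c = c * u₂
    rw [hcdef, mul_add, add_mul, h2x, mul_assoc, mul_assoc, h2, mul_smul_comm, mul_one]
    abel
  obtain ⟨r, hr⟩ : ∃ r : Fin 8 → R,
      r = ![1, s, u₁, u₂, s * u₁, s * u₂, u₁ * u₂, s * (u₁ * u₂)] := ⟨_, rfl⟩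
  have hr0 : r 0 = 1 := by rw [hr]; rfl
  have hr1 : r 1 = s := by rw [hr]; rfl
  have hr2 : r 2 = u₁ := by rw [hr]; rfl
  have hr3 : r 3 = u₂ := by rw [hr]; rfl
  have hr4 : r 4 = s * u₁ := by rw [hr]; rfl
  have hr5 : r 5 = s * u₂ := by rw [hr]; rfl
  have hr6 : r 6 = u₁ * u₂ := by rw [hr]; rfl
  have hr7 : r 7 = s * (u₁ * u₂) := by rw [hr]; rfl
  refine ⟨Algebra.adjoin K {c}, r, ?_, ?_, ?_, hr0, ?_⟩
  · intro z hz z' hz'
    have e1 : Commute c z := Algebra.commute_of_mem_adjoin_self hz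
    exact (Algebra.commute_of_mem_adjoin_singleton_of_commute hz' e1.symm).eq
  · intro z hz
    exact ⟨(Algebra.commute_of_mem_adjoin_singleton_of_commute hz hcs).symm,
      (Algebra.commute_of_mem_adjoin_singleton_of_commute hz hc1).symm,
      (Algebra.commute_of_mem_adjoin_singleton_of_commute hz hc2).symm⟩
  · have ms : s ∈ Algebra.adjoin K ({s, u₁, u₂} : Set R) := Algebra.subset_adjoin (by simp)
    have m1 : u₁ ∈ Algebra.adjoin K ({s, u₁, u₂} : Set R) := Algebra.subset_adjoin (by simp)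
    have m2 : u₂ ∈ Algebra.adjoin K ({s, u₁, u₂} : Set R) := Algebra.subset_adjoin (by simp)
    intro i
    fin_cases i
    · show r 0 ∈ _
      rw [hr0]
      exact one_mem _
    · show r 1 ∈ _
      rw [hr1]
      exact ms
    · show r 2 ∈ _
      rw [hr2]
      exact m1
    · show r 3 ∈ _
      rw [hr3]
      exact m2
    · show r 4 ∈ _
      rw [hr4]
      exact mul_mem ms m1
    · show r 5 ∈ _
      rw [hr5]
      exact mul_mem ms m2
    · show r 6 ∈ _
      rw [hr6]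
      exact mul_mem m1 m2
    · show r 7 ∈ _
      rw [hr7]
      exact mul_mem ms (mul_mem m1 m2)
  · have hcZ : c ∈ Algebra.adjoin K ({c} : Set R) := Algebra.subset_adjoin rfl
    have b : ∀ i, InSpan8 (Algebra.adjoin K ({c} : Set R)) r (r i) := inSpan8_basis _ r
    have b0 : InSpan8 (Algebra.adjoin K ({c} : Set R)) r 1 := hr0 ▸ b 0
    have b1 : InSpan8 (Algebra.adjoin K ({c} : Set R)) r s := hr1 ▸ b 1
    have b2 : InSpan8 (Algebra.adjoin K ({c} : Set R)) r u₁ := hr2 ▸ b 2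
    have b3 : InSpan8 (Algebra.adjoin K ({c} : Set R)) r u₂ := hr3 ▸ b 3
    have b4 : InSpan8 (Algebra.adjoin K ({c} : Set R)) r (s * u₁) := hr4 ▸ b 4
    have b5 : InSpan8 (Algebra.adjoin K ({c} : Set R)) r (s * u₂) := hr5 ▸ b 5
    have b6 : InSpan8 (Algebra.adjoin K ({c} : Set R)) r (u₁ * u₂) := hr6 ▸ b 6
    have b7 : InSpan8 (Algebra.adjoin K ({c} : Set R)) r (s * (u₁ * u₂)) := hr7 ▸ b 7
    -- the table for `s`
    have S0 : InSpan8 (Algebra.adjoin K ({c} : Set R)) r (s * r 0) := by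
      rw [hr0, mul_one]; exact b1
    have S1 : InSpan8 (Algebra.adjoin K ({c} : Set R)) r (s * r 1) := by
      rw [hr1, hs]; exact inSpan8_zsmul _ b0
    have S2 : InSpan8 (Algebra.adjoin K ({c} : Set R)) r (s * r 2) := by
      rw [hr2]; exact b4
    have S3 : InSpan8 (Algebra.adjoin K ({c} : Set R)) r (s * r 3) := by
      rw [hr3]; exact b5
    have S4 : InSpan8 (Algebra.adjoin K ({c} : Set R)) r (s * r 4) := by
      rw [hr4, hsx]; exact inSpan8_zsmul _ b2
    have S5 : InSpan8 (Algebra.adjoin K ({c} : Set R)) r (s * r 5) := by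
      rw [hr5, hsx]; exact inSpan8_zsmul _ b3
    have S6 : InSpan8 (Algebra.adjoin K ({c} : Set R)) r (s * r 6) := by
      rw [hr6]; exact b7
    have S7 : InSpan8 (Algebra.adjoin K ({c} : Set R)) r (s * r 7) := by
      rw [hr7, hsx]; exact inSpan8_zsmul _ b6
    -- the table for `u₁`
    have U0 : InSpan8 (Algebra.adjoin K ({c} : Set R)) r (u₁ * r 0) := by
      rw [hr0, mul_one]; exact b2
    have U1 : InSpan8 (Algebra.adjoin K ({c} : Set R)) r (u₁ * r 1) := by
      rw [hr1, a1]; exact inSpan8_neg b4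
    have U2 : InSpan8 (Algebra.adjoin K ({c} : Set R)) r (u₁ * r 2) := by
      rw [hr2, h1]; exact inSpan8_zsmul _ b0
    have U3 : InSpan8 (Algebra.adjoin K ({c} : Set R)) r (u₁ * r 3) := by
      rw [hr3]; exact b6
    have U4 : InSpan8 (Algebra.adjoin K ({c} : Set R)) r (u₁ * r 4) := by
      rw [hr4, a1x, h1, mul_smul_comm, mul_one]
      exact inSpan8_neg (inSpan8_zsmul _ b1)
    have U5 : InSpan8 (Algebra.adjoin K ({c} : Set R)) r (u₁ * r 5) := by
      rw [hr5, a1x]; exact inSpan8_neg b7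
    have U6 : InSpan8 (Algebra.adjoin K ({c} : Set R)) r (u₁ * r 6) := by
      rw [hr6, h1x]; exact inSpan8_zsmul _ b3
    have U7 : InSpan8 (Algebra.adjoin K ({c} : Set R)) r (u₁ * r 7) := by
      rw [hr7, a1x, h1x, mul_smul_comm]
      exact inSpan8_neg (inSpan8_zsmul _ b5)
    -- the table for `u₂`
    have V0 : InSpan8 (Algebra.adjoin K ({c} : Set R)) r (u₂ * r 0) := by
      rw [hr0, mul_one]; exact b3
    have V1 : InSpan8 (Algebra.adjoin K ({c} : Set R)) r (u₂ * r 1) := by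
      rw [hr1, a2]; exact inSpan8_neg b5
    have V2 : InSpan8 (Algebra.adjoin K ({c} : Set R)) r (u₂ * r 2) := by
      rw [hr2, hc]
      have h := inSpan8_sub (inSpan8_zmul hcZ b0) b6
      rwa [mul_one] at h
    have V3 : InSpan8 (Algebra.adjoin K ({c} : Set R)) r (u₂ * r 3) := by
      rw [hr3, h2]; exact inSpan8_zsmul _ b0
    have V4 : InSpan8 (Algebra.adjoin K ({c} : Set R)) r (u₂ * r 4) := by
      rw [hr4, a2x, hc, mul_sub, hcs.eq]
      exact inSpan8_neg (inSpan8_sub (inSpan8_zmul hcZ b1) b7)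
    have V5 : InSpan8 (Algebra.adjoin K ({c} : Set R)) r (u₂ * r 5) := by
      rw [hr5, a2x, h2, mul_smul_comm, mul_one]
      exact inSpan8_neg (inSpan8_zsmul _ b1)
    have V6 : InSpan8 (Algebra.adjoin K ({c} : Set R)) r (u₂ * r 6) := by
      rw [hr6, hcx, h2, mul_smul_comm, mul_one]
      exact inSpan8_sub (inSpan8_zmul hcZ b3) (inSpan8_zsmul _ b2)
    have V7 : InSpan8 (Algebra.adjoin K ({c} : Set R)) r (u₂ * r 7) := by
      rw [hr7, a2x, hcx, h2, mul_smul_comm, mul_one, mul_sub, ← mul_assoc s c u₂, hcs.eq,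
        mul_assoc, mul_smul_comm]
      exact inSpan8_neg (inSpan8_sub (inSpan8_zmul hcZ b5) (inSpan8_zsmul _ b4))
    intro j
    fin_cases j
    · exact ⟨S0, U0, V0⟩
    · exact ⟨S1, U1, V1⟩
    · exact ⟨S2, U2, V2⟩
    · exact ⟨S3, U3, V3⟩
    · exact ⟨S4, U4, V4⟩
    · exact ⟨S5, U5, V5⟩
    · exact ⟨S6, U6, V6⟩
    · exact ⟨S7, U7, V7⟩

end span

/-- From `s`, `t` with squares `-3` and `s t + t s = ±2`: `u = 3 t ± s` has `u² = -24` and
anticommutes with `s`. -/
theorem exists_u {R : Type u} [Ring R] (s t : R) (hs : s * s = (-3 : ℤ) • (1 : R))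
    (ht : t * t = (-3 : ℤ) • (1 : R))
    (hst : s * t + t * s = (2 : ℤ) • (1 : R) ∨ s * t + t * s = (-2 : ℤ) • (1 : R)) :
    ∃ (u : R) (κ : ℤ), t + t + t = u - κ • s ∧ u * u = (-24 : ℤ) • (1 : R) ∧
      u * s = -(s * u) := by
  rcases hst with h | h
  · refine ⟨t + t + t + s, 1, by simp, ?_, ?_⟩
    · have e : (t + t + t + s) * (t + t + t + s)
          = (9 : ℤ) • (t * t) + (3 : ℤ) • (s * t + t * s) + s * s := by noncomm_ring
      rw [e, ht, h, hs, smul_smul, smul_smul, ← add_smul, ← add_smul]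
      norm_num
    · have e : (t + t + t + s) * s + s * (t + t + t + s)
          = (3 : ℤ) • (s * t + t * s) + (2 : ℤ) • (s * s) := by noncomm_ring
      rw [h, hs, smul_smul, smul_smul, ← add_smul] at e
      norm_num at e
      exact eq_neg_of_add_eq_zero_left e
  · refine ⟨t + t + t - s, -1, by simp, ?_, ?_⟩
    · have e : (t + t + t - s) * (t + t + t - s)
          = (9 : ℤ) • (t * t) + (-3 : ℤ) • (s * t + t * s) + s * s := by noncomm_ring
      rw [e, ht, h, hs, smul_smul, smul_smul, ← add_smul, ← add_smul]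
      norm_num
    · have e : (t + t + t - s) * s + s * (t + t + t - s)
          = (3 : ℤ) • (s * t + t * s) + (-2 : ℤ) • (s * s) := by noncomm_ring
      rw [h, hs, smul_smul, smul_smul, ← add_smul] at e
      norm_num at e
      exact eq_neg_of_add_eq_zero_left e

theorem pkgT1R : PkgT1R.{u} := by
  intro p _ R _ _ h2 h3 W A B hW hA hB hwa hwb
  obtain ⟨s, hsdef⟩ : ∃ s : R, s = -(W + W + 1) := ⟨_, rfl⟩
  obtain ⟨sa, hsadef⟩ : ∃ sa : R, sa = -(A + A + 1) := ⟨_, rfl⟩
  obtain ⟨sb, hsbdef⟩ : ∃ sb : R, sb = -(B + B + 1) := ⟨_, rfl⟩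
  have sq : ∀ X : R, X * X + X + 1 = 0 →
      (-(X + X + 1)) * (-(X + X + 1)) = (-3 : ℤ) • (1 : R) := by
    intro X hX
    have e : (-(X + X + 1)) * (-(X + X + 1))
        = (4 : ℤ) • (X * X + X + 1) + (-3 : ℤ) • (1 : R) := by noncomm_ring
    rw [e, hX, smul_zero, zero_add]
  have cross : ∀ X Y : R, (-(X + X + 1)) * (-(Y + Y + 1)) + (-(Y + Y + 1)) * (-(X + X + 1))
      = (4 : ℤ) • (X * Y + Y * X + Y + X) + (2 : ℤ) • (1 : R) := by
    intro X Y
    noncomm_ring
  have crossCase : ∀ X Y : R, (X * Y + Y * X + Y + X = 0 ∨ X * Y + Y * X + Y + X = -1) →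
      ((-(X + X + 1)) * (-(Y + Y + 1)) + (-(Y + Y + 1)) * (-(X + X + 1)) = (2 : ℤ) • (1 : R) ∨
       (-(X + X + 1)) * (-(Y + Y + 1)) + (-(Y + Y + 1)) * (-(X + X + 1)) = (-2 : ℤ) • (1 : R)) := by
    intro X Y hXY
    rw [cross]
    rcases hXY with h | h
    · left
      rw [h, smul_zero, zero_add]
    · right
      rw [h, smul_neg, ← neg_smul, ← add_smul]
      norm_num
  have hs : s * s = (-3 : ℤ) • (1 : R) := by rw [hsdef]; exact sq W hW
  have hsa : sa * sa = (-3 : ℤ) • (1 : R) := by rw [hsadef]; exact sq A hA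
  have hsb : sb * sb = (-3 : ℤ) • (1 : R) := by rw [hsbdef]; exact sq B hB
  have hssa : s * sa + sa * s = (2 : ℤ) • (1 : R) ∨ s * sa + sa * s = (-2 : ℤ) • (1 : R) := by
    rw [hsdef, hsadef]
    exact crossCase W A hwa
  have hssb : s * sb + sb * s = (2 : ℤ) • (1 : R) ∨ s * sb + sb * s = (-2 : ℤ) • (1 : R) := by
    rw [hsdef, hsbdef]
    exact crossCase W B hwb
  obtain ⟨u₁, κ₁, hk1, h1, a1⟩ := exists_u s sa hs hsa hssa
  obtain ⟨u₂, κ₂, hk2, h2', a2⟩ := exists_u s sb hs hsb hssb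
  obtain ⟨Z, r, hZc, hZcomm, hr, hr0, htab⟩ :=
    t1r_core (K := ZMod p) s u₁ u₂ hs h1 h2' a1 a2
  obtain ⟨h, hh⟩ : ∃ h : ZMod p, h = (2 : ZMod p)⁻¹ := ⟨_, rfl⟩
  obtain ⟨h', hh'⟩ : ∃ h' : ZMod p, h' = (3 : ZMod p)⁻¹ := ⟨_, rfl⟩
  have three_smul' : ∀ x : R, (3 : ZMod p) • x = x + x + x := by
    intro x
    have e : (3 : ZMod p) = 1 + 1 + 1 := by norm_num
    rw [e, add_smul, add_smul, one_smul]
  have half : ∀ X t : R, t = -(X + X + 1) → X = h • (-(1 + t)) := by
    intro X t ht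
    have e : (2 : ZMod p) • X = -(1 + t) := by
      rw [ht, two_smul]
      abel
    rw [← e, smul_smul, hh, inv_mul_cancel₀ h2, one_smul]
  have third : ∀ (t u : R) (κ : ℤ), t + t + t = u - κ • s → t = h' • (u - κ • s) := by
    intro t u κ ht
    rw [← ht, ← three_smul', smul_smul, hh', inv_mul_cancel₀ h3, one_smul]
  have hWrep : W = h • (-(1 + s)) := half W s hsdef
  have hArep : A = h • (-(1 + h' • (u₁ - κ₁ • s))) := by
    rw [← third sa u₁ κ₁ hk1]
    exact half A sa hsadef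
  have hBrep : B = h • (-(1 + h' • (u₂ - κ₂ • s))) := by
    rw [← third sb u₂ κ₂ hk2]
    exact half B sb hsbdef
  refine ⟨Z, r, hZc, ?_, ?_, ?_, ?_⟩
  · intro z hz
    obtain ⟨c1, c2, c3⟩ := hZcomm z hz
    have cW : Commute z W := by
      rw [hWrep]
      exact ((Commute.one_right z).add_right c1).neg_right.smul_right h
    have cA : Commute z A := by
      rw [hArep]
      exact ((Commute.one_right z).add_right
        ((c2.sub_right (c1.smul_right κ₁)).smul_right h')).neg_right.smul_right h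
    have cB : Commute z B := by
      rw [hBrep]
      exact ((Commute.one_right z).add_right
        ((c3.sub_right (c1.smul_right κ₂)).smul_right h')).neg_right.smul_right h
    exact ⟨cW.eq, cA.eq, cB.eq⟩
  · have mW : W ∈ Algebra.adjoin (ZMod p) ({W, A, B} : Set R) := Algebra.subset_adjoin (by simp)
    have mA : A ∈ Algebra.adjoin (ZMod p) ({W, A, B} : Set R) := Algebra.subset_adjoin (by simp)
    have mB : B ∈ Algebra.adjoin (ZMod p) ({W, A, B} : Set R) := Algebra.subset_adjoin (by simp)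
    have ms : s ∈ Algebra.adjoin (ZMod p) ({W, A, B} : Set R) := by
      rw [hsdef]
      exact neg_mem (add_mem (add_mem mW mW) (one_mem _))
    have msa : sa ∈ Algebra.adjoin (ZMod p) ({W, A, B} : Set R) := by
      rw [hsadef]
      exact neg_mem (add_mem (add_mem mA mA) (one_mem _))
    have msb : sb ∈ Algebra.adjoin (ZMod p) ({W, A, B} : Set R) := by
      rw [hsbdef]
      exact neg_mem (add_mem (add_mem mB mB) (one_mem _))
    have mu1 : u₁ ∈ Algebra.adjoin (ZMod p) ({W, A, B} : Set R) := by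
      have e : u₁ = sa + sa + sa + κ₁ • s := by
        rw [hk1]
        abel
      rw [e]
      exact add_mem (add_mem (add_mem msa msa) msa) (zsmul_mem ms κ₁)
    have mu2 : u₂ ∈ Algebra.adjoin (ZMod p) ({W, A, B} : Set R) := by
      have e : u₂ = sb + sb + sb + κ₂ • s := by
        rw [hk2]
        abel
      rw [e]
      exact add_mem (add_mem (add_mem msb msb) msb) (zsmul_mem ms κ₂)
    have hle : Algebra.adjoin (ZMod p) ({s, u₁, u₂} : Set R)
        ≤ Algebra.adjoin (ZMod p) ({W, A, B} : Set R) := by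
      apply Algebra.adjoin_le
      intro x hx
      rcases hx with rfl | rfl | rfl
      · exact ms
      · exact mu1
      · exact mu2
    intro i
    exact hle (hr i)
  · have h0 := inSpan8_basis Z r 0
    rw [hr0] at h0
    exact h0
  · intro T hT j
    obtain ⟨tS, tU1, tU2⟩ := htab j
    have bj := inSpan8_basis Z r j
    have eW : W * r j = h • (-(r j + s * r j)) := by
      conv_lhs => rw [hWrep]
      rw [smul_mul_assoc, neg_mul, add_mul, one_mul]
    have eA : A * r j = h • (-(r j + h' • (u₁ * r j - κ₁ • (s * r j)))) := by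
      conv_lhs => rw [hArep]
      rw [smul_mul_assoc, neg_mul, add_mul, one_mul, smul_mul_assoc, sub_mul, smul_mul_assoc]
    have eB : B * r j = h • (-(r j + h' • (u₂ * r j - κ₂ • (s * r j)))) := by
      conv_lhs => rw [hBrep]
      rw [smul_mul_assoc, neg_mul, add_mul, one_mul, smul_mul_assoc, sub_mul, smul_mul_assoc]
    have iW : InSpan8 Z r (W * r j) := by
      rw [eW]
      exact inSpan8_smul _ (inSpan8_neg (inSpan8_add bj tS))
    have iA : InSpan8 Z r (A * r j) := by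
      rw [eA]
      exact inSpan8_smul _ (inSpan8_neg (inSpan8_add bj
        (inSpan8_smul _ (inSpan8_sub tU1 (inSpan8_zsmul _ tS)))))
    have iB : InSpan8 Z r (B * r j) := by
      rw [eB]
      exact inSpan8_smul _ (inSpan8_neg (inSpan8_add bj
        (inSpan8_smul _ (inSpan8_sub tU2 (inSpan8_zsmul _ tS)))))
    rcases hT with hT | hT | hT
    · rw [hT]
      exact iW
    · rw [hT]
      exact iA
    · rw [Set.mem_singleton_iff.1 hT]
      exact iB

end Cfsg.Agent.Lib.Helper94.Zass
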